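import Cfsg.Agent.Lib.H28.HeM.CertB.Run
import Cfsg.Agent.Lib.H28.HeM.RelStruct

set_option autoImplicit false
set_option maxRecDepth 100000

/-!
# Second certificate for the Held group: the lifts of `a, d` are involutions (helper28)

In a group with elements `a, c, d, e, f, g`, `c² = 1`, satisfying `(de)³ = (df)³ = (gd)³ = 1`,
`e = (fg)²`, `a = (cd)⁵`, in which `a` commutes with `c, d, e, f, g` and `c` commutes with
`e, f, g`, `d² = e² = f² = g²`, and the elements `a², d², [e,f], [e,g], (cdfg)⁴` are central of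
order at most two, all these five elements are trivial.  Certified part of a coset enumeration
over `⟨df⟩`.
-/

namespace Cfsg.Agent.Lib.H28.HeM.CertB

open Cfsg.Agent.Lib.H17.CosetCert Cfsg.Agent.Lib.H28.CosetCertD Cfsg.Agent.Lib.H28.HeM.RelStruct
  Cfsg.Agent.Lib.H28.HeM

/-- inverse letter: letters `a A c d D e E f F g G` -/
def inv (x : ℕ) : ℕ := [1, 0, 2, 4, 3, 6, 5, 8, 7, 10, 9].getD x x

/-- the base relators -/
def baseL : List (List ℕ) := [
  [3, 5, 3, 5, 3, 5],
  [3, 7, 3, 7, 3, 7],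
  [9, 3, 9, 3, 9, 3],
  [5, 10, 8, 10, 8],
  [0, 4, 2, 4, 2, 4, 2, 4, 2, 4, 2],
  [1, 2, 0, 2],
  [1, 4, 0, 3],
  [1, 6, 0, 5],
  [1, 8, 0, 7],
  [1, 10, 0, 9],
  [2, 6, 2, 5],
  [2, 8, 2, 7],
  [2, 10, 2, 9],
  [3, 3, 6, 6],
  [3, 3, 8, 8],
  [3, 3, 10, 10]]

/-- the central words -/
def bitL : List (List ℕ) := [[0, 0], [3, 3], [6, 8, 5, 7], [6, 10, 5, 9],
  [2, 3, 7, 9, 2, 3, 7, 9, 2, 3, 7, 9, 2, 3, 7, 9]]

theorem relL_sub : ∀ w ∈ relL, w ∈ fullL inv [0, 2, 3, 5, 7, 9] (List.range 11) baseL bitL bitL := by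
  decide +kernel

theorem eq_one_of_mem_zpowers {G : Type*} [Group G] {x t : G} (hx : x ^ 3 = 1)
    (ht : t ∈ Subgroup.zpowers x) (h2 : t * t = 1) : t = 1 := by
  obtain ⟨k, rfl⟩ := Subgroup.mem_zpowers_iff.1 ht
  have h3 : (x ^ k) ^ 3 = 1 := by
    rw [← zpow_natCast, ← zpow_mul, mul_comm, zpow_mul, zpow_natCast, hx, one_zpow]
  have : x ^ k = (x ^ k) ^ 3 * ((x ^ k) * (x ^ k))⁻¹ := by group
  rw [this, h3, h2]
  simp

variable {G : Type*} [Group G]

theorem main (a c d e f g : G) (hcc : c * c = 1)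
    (h1 : (d * e) ^ 3 = 1) (h2 : (d * f) ^ 3 = 1) (h3 : (g * d) ^ 3 = 1)
    (h4 : e = (f * g) ^ 2) (h5 : a = (c * d) ^ 5)
    (hac : a * c = c * a) (had : a * d = d * a) (hae : a * e = e * a) (haf : a * f = f * a)
    (hag : a * g = g * a) (hce : c * e = e * c) (hcf : c * f = f * c) (hcg : c * g = g * c)
    (hde : d * d = e * e) (hdf : d * d = f * f) (hdg : d * d = g * g)
    (hc : ∀ β ∈ [a * a, d * d, e⁻¹ * f⁻¹ * e * f, e⁻¹ * g⁻¹ * e * g, (c * d * f * g) ^ 4],
      β ∈ Subgroup.center G ∧ β * β = 1) :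
    a * a = 1 ∧ d * d = 1 ∧ e⁻¹ * f⁻¹ * e * f = 1 ∧ e⁻¹ * g⁻¹ * e * g = 1 ∧
      (c * d * f * g) ^ 4 = 1 := by
  have hci : c⁻¹ = c := inv_eq_of_mul_eq_one_left hcc
  set γ : ℕ → G := fun x => [a, a⁻¹, c, d, d⁻¹, e, e⁻¹, f, f⁻¹, g, g⁻¹].getD x 1 with hγ
  have hinv : ∀ x, γ (inv x) = (γ x)⁻¹ := by
    intro x
    by_cases hx : x < 11
    · interval_cases x <;> simp [hγ, inv, hci]
    · have h11 : 11 ≤ x := by omega
      simp [hγ, inv, h11]
  have hbits : ∀ β ∈ bitL, (β.map γ).prod ∈ Subgroup.center G ∧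
      (β.map γ).prod * (β.map γ).prod = 1 := by
    intro β hβ
    simp only [bitL, List.mem_cons, List.not_mem_nil, or_false] at hβ
    rcases hβ with rfl | rfl | rfl | rfl | rfl
    · have := hc (a * a) (by simp)
      simpa [hγ] using this
    · have := hc (d * d) (by simp)
      simpa [hγ] using this
    · have := hc (e⁻¹ * f⁻¹ * e * f) (by simp)
      have e' : ([6, 8, 5, 7].map γ).prod = e⁻¹ * f⁻¹ * e * f := by
        simp only [hγ, List.map_cons, List.map_nil, List.prod_cons, List.prod_nil,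
          List.getD_cons_zero, List.getD_cons_succ, mul_assoc, mul_one]
      rw [e']
      exact this
    · have := hc (e⁻¹ * g⁻¹ * e * g) (by simp)
      have e' : ([6, 10, 5, 9].map γ).prod = e⁻¹ * g⁻¹ * e * g := by
        simp only [hγ, List.map_cons, List.map_nil, List.prod_cons, List.prod_nil,
          List.getD_cons_zero, List.getD_cons_succ, mul_assoc, mul_one]
      rw [e']
      exact this
    · have := hc ((c * d * f * g) ^ 4) (by simp)
      have e' : ([2, 3, 7, 9, 2, 3, 7, 9, 2, 3, 7, 9, 2, 3, 7, 9].map γ).prod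
          = (c * d * f * g) ^ 4 := by
        simp only [hγ, List.map_cons, List.map_nil, List.prod_cons, List.prod_nil,
          List.getD_cons_zero, List.getD_cons_succ, pow_succ, pow_zero, one_mul, mul_assoc, mul_one]
      rw [e']
      exact this
  have hbase : ∀ w ∈ baseL, (w.map γ).prod = 1 := by
    have k1 := h1
    have k2 := h2
    have k3 := h3
    have k4 : e * ((f * g) ^ 2)⁻¹ = 1 := by rw [← h4]; exact mul_inv_cancel e
    have k5 : a * ((c * d) ^ 5)⁻¹ = 1 := by rw [← h5]; exact mul_inv_cancel a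
    have k6 : a⁻¹ * (c * (a * c)) = 1 := by rw [hac, ← mul_assoc c, hcc]; group
    have k7 : a⁻¹ * (d⁻¹ * (a * d)) = 1 := by rw [had]; group
    have k8 : a⁻¹ * (e⁻¹ * (a * e)) = 1 := by rw [hae]; group
    have k9 : a⁻¹ * (f⁻¹ * (a * f)) = 1 := by rw [haf]; group
    have k10 : a⁻¹ * (g⁻¹ * (a * g)) = 1 := by rw [hag]; group
    have k11 : c * (e⁻¹ * (c * e)) = 1 := by rw [hce, ← mul_assoc e⁻¹, inv_mul_cancel, one_mul, hcc]
    have k12 : c * (f⁻¹ * (c * f)) = 1 := by rw [hcf, ← mul_assoc f⁻¹, inv_mul_cancel, one_mul, hcc]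
    have k13 : c * (g⁻¹ * (c * g)) = 1 := by rw [hcg, ← mul_assoc g⁻¹, inv_mul_cancel, one_mul, hcc]
    have k14 : d * (d * (e⁻¹ * e⁻¹)) = 1 := by rw [← mul_assoc, hde]; group
    have k15 : d * (d * (f⁻¹ * f⁻¹)) = 1 := by rw [← mul_assoc, hdf]; group
    have k16 : d * (d * (g⁻¹ * g⁻¹)) = 1 := by rw [← mul_assoc, hdg]; group
    simp only [pow_succ, pow_zero, one_mul, mul_assoc, mul_inv_rev, hci] at k1 k2 k3 k4 k5
    intro w hw
    simp only [baseL, List.mem_cons, List.not_mem_nil, or_false] at hw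
    rcases hw with rfl | rfl | rfl | rfl | rfl | rfl | rfl | rfl | rfl | rfl | rfl | rfl | rfl |
        rfl | rfl | rfl <;>
      simp only [hγ, List.map_cons, List.map_nil, List.prod_cons, List.prod_nil, List.getD_cons_zero,
        List.getD_cons_succ, mul_one]
    · exact k1
    · exact k2
    · exact k3
    · exact k4
    · exact k5
    · exact k6
    · exact k7
    · exact k8
    · exact k9
    · exact k10
    · exact k11
    · exact k12
    · exact k13
    · exact k14
    · exact k15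
    · exact k16
  have hfull := rel_of_struct γ inv hinv [0, 2, 3, 5, 7, 9] (List.range 11) baseL bitL bitL hbase
    (fun β hβ => (hbits β hβ).1) (fun β hβ => (hbits β hβ).2)
  have hrel : ∀ w ∈ relL, (w.map γ).prod = 1 := fun w hw => hfull w (relL_sub w hw)
  set E : Subgroup G := Subgroup.zpowers (d * f) with hE
  have hsub : ∀ w ∈ subL, (w.map γ).prod ∈ E := by
    intro w hw
    simp only [subL, List.mem_cons, List.not_mem_nil, or_false] at hw
    subst hw
    simp only [hγ, List.map_cons, List.map_nil, List.prod_cons, List.prod_nil, List.getD_cons_zero,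
      List.getD_cons_succ, mul_one]
    exact Subgroup.mem_zpowers _
  have hOK := CertGlue.wordsOK words relL subL words_spec γ hrel E hsub
  have m0 := CertGlue.prod_mem_of_fix γ E pw0 (fix0 _ _ hOK)
  have m1 := CertGlue.prod_mem_of_fix γ E pw1 (fix1 _ _ hOK)
  have m2 := CertGlue.prod_mem_of_fix γ E pw2 (fix2 _ _ hOK)
  have m3 := CertGlue.prod_mem_of_fix γ E pw3 (fix3 _ _ hOK)
  have m4 := CertGlue.prod_mem_of_fix γ E pw4 (fix4 _ _ hOK)
  have e0 : (pw0.map γ).prod = a * a := by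
    simp only [pw0, hγ, List.map_cons, List.map_nil, List.prod_cons, List.prod_nil,
      List.getD_cons_zero, List.getD_cons_succ, mul_one]
  have e1 : (pw1.map γ).prod = d * d := by
    simp only [pw1, hγ, List.map_cons, List.map_nil, List.prod_cons, List.prod_nil,
      List.getD_cons_zero, List.getD_cons_succ, mul_one]
  have e2 : (pw2.map γ).prod = e⁻¹ * f⁻¹ * e * f := by
    simp only [pw2, hγ, List.map_cons, List.map_nil, List.prod_cons, List.prod_nil,
      List.getD_cons_zero, List.getD_cons_succ, mul_assoc, mul_one]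
  have e3 : (pw3.map γ).prod = e⁻¹ * g⁻¹ * e * g := by
    simp only [pw3, hγ, List.map_cons, List.map_nil, List.prod_cons, List.prod_nil,
      List.getD_cons_zero, List.getD_cons_succ, mul_assoc, mul_one]
  have e4 : (pw4.map γ).prod = (c * d * f * g) ^ 4 := by
    simp only [pw4, hγ, List.map_cons, List.map_nil, List.prod_cons, List.prod_nil,
      List.getD_cons_zero, List.getD_cons_succ, pow_succ, pow_zero, one_mul, mul_assoc, mul_one]
  rw [e0] at m0
  rw [e1] at m1
  rw [e2] at m2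
  rw [e3] at m3
  rw [e4] at m4
  exact ⟨eq_one_of_mem_zpowers h2 m0 (hc _ (by simp)).2,
    eq_one_of_mem_zpowers h2 m1 (hc _ (by simp)).2,
    eq_one_of_mem_zpowers h2 m2 (hc _ (by simp)).2,
    eq_one_of_mem_zpowers h2 m3 (hc _ (by simp)).2,
    eq_one_of_mem_zpowers h2 m4 (hc _ (by simp)).2⟩

end Cfsg.Agent.Lib.H28.HeM.CertB
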