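import Cfsg.Agent.Lib.H28.HeM.CertB.StepsA
import Cfsg.Agent.Lib.H28.HeM.CertB.StepsB
import Cfsg.Agent.Lib.H28.HeM.CertB.StepsC
import Cfsg.Agent.Lib.H28.HeM.CertB.StepsD

set_option autoImplicit false
set_option maxRecDepth 100000

/-! # Running the certificate: the path words fix the base point (generated) -/

namespace Cfsg.Agent.Lib.H28.HeM.CertB

open Cfsg.Agent.Lib.H17.CosetCert Cfsg.Agent.Lib.H28.CosetCertD

/-- path word 0 -/
def pw0 : List ℕ := [0, 0]

/-- the facts along path 0 -/
def pc0 : ℕ := 0x7acf000002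

theorem path_ok0 : (walkD F 11 16777216 31446 2 pc0 0 pw0).map (fun r => (r.2.1, r.2.2)) = some (0, []) := by
  decide +kernel

/-- path word 1 -/
def pw1 : List ℕ := [3, 3]

/-- the facts along path 1 -/
def pc1 : ℕ := 0x7ad0000000

theorem path_ok1 : (walkD F 11 16777216 31446 2 pc1 0 pw1).map (fun r => (r.2.1, r.2.2)) = some (0, []) := by
  decide +kernel

/-- path word 2 -/
def pw2 : List ℕ := [6, 8, 5, 7]

/-- the facts along path 2 -/
def pc2 : ℕ := 0x1007aba007ac1007ad1

theorem path_ok2 : (walkD F 11 16777216 31446 4 pc2 0 pw2).map (fun r => (r.2.1, r.2.2)) = some (0, []) := by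
  decide +kernel

/-- path word 3 -/
def pw3 : List ℕ := [6, 10, 5, 9]

/-- the facts along path 3 -/
def pc3 : ℕ := 0x7ac20000a6007ad2007ad1

theorem path_ok3 : (walkD F 11 16777216 31446 4 pc3 0 pw3).map (fun r => (r.2.1, r.2.2)) = some (0, []) := by
  decide +kernel

/-- path word 4 -/
def pw4 : List ℕ := [2, 3, 7, 9, 2, 3, 7, 9, 2, 3, 7, 9, 2, 3, 7, 9]

/-- the facts along path 4 -/
def pc4 : ℕ := 0x7ac2007ac4007ac9000a49007ace007ad5007ad4007ad300382c0022b00013b20013b60004870001e3000057000004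

theorem path_ok4 : (walkD F 11 16777216 31446 16 pc4 0 pw4).map (fun r => (r.2.1, r.2.2)) = some (0, []) := by
  decide +kernel

variable {G Q : Type*} [Group G] [MulAction G Q] (γ : ℕ → G) (q0 : Q)

theorem run (hOK : WordsOK γ q0 words) : Inv F 11 γ q0 31446 6096 := by
  have h0 := inv_zero F 11 γ q0
  have h1 := checkSteps_soundD F 11 16777216 γ q0 words hOK steps0 0 1 421 h0 chk0
  rw [len0] at h1
  have h2 := checkSteps_soundD F 11 16777216 γ q0 words hOK steps1 2000 421 749 h1 chk1
  rw [len1] at h2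
  have h3 := checkSteps_soundD F 11 16777216 γ q0 words hOK steps2 4000 749 1123 h2 chk2
  rw [len2] at h3
  have h4 := checkSteps_soundD F 11 16777216 γ q0 words hOK steps3 6000 1123 1490 h3 chk3
  rw [len3] at h4
  have h5 := checkSteps_soundD F 11 16777216 γ q0 words hOK steps4 8000 1490 1880 h4 chk4
  rw [len4] at h5
  have h6 := checkSteps_soundD F 11 16777216 γ q0 words hOK steps5 10000 1880 2334 h5 chk5
  rw [len5] at h6
  have h7 := checkSteps_soundD F 11 16777216 γ q0 words hOK steps6 12000 2334 2705 h6 chk6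
  rw [len6] at h7
  have h8 := checkSteps_soundD F 11 16777216 γ q0 words hOK steps7 14000 2705 3122 h7 chk7
  rw [len7] at h8
  have h9 := checkSteps_soundD F 11 16777216 γ q0 words hOK steps8 16000 3122 3554 h8 chk8
  rw [len8] at h9
  have h10 := checkSteps_soundD F 11 16777216 γ q0 words hOK steps9 18000 3554 3939 h9 chk9
  rw [len9] at h10
  have h11 := checkSteps_soundD F 11 16777216 γ q0 words hOK steps10 20000 3939 4362 h10 chk10
  rw [len10] at h11
  have h12 := checkSteps_soundD F 11 16777216 γ q0 words hOK steps11 22000 4362 4790 h11 chk11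
  rw [len11] at h12
  have h13 := checkSteps_soundD F 11 16777216 γ q0 words hOK steps12 24000 4790 5203 h12 chk12
  rw [len12] at h13
  have h14 := checkSteps_soundD F 11 16777216 γ q0 words hOK steps13 26000 5203 5652 h13 chk13
  rw [len13] at h14
  have h15 := checkSteps_soundD F 11 16777216 γ q0 words hOK steps14 28000 5652 6081 h14 chk14
  rw [len14] at h15
  have h16 := checkSteps_soundD F 11 16777216 γ q0 words hOK steps15 30000 6081 6096 h15 chk15
  rw [len15] at h16
  exact h16

theorem fix0 (hOK : WordsOK γ q0 words) : act γ pw0 q0 = q0 := by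
  obtain ⟨-, c, hc0, hfacts⟩ := run γ q0 hOK
  have hval : ∀ f < 31446, Valid 11 γ c (F f) := fun f hf => (hfacts f hf).2.2
  have hp := path_ok0
  cases hw : walkD F 11 16777216 31446 2 pc0 0 pw0 with
  | none => rw [hw] at hp; exact absurd hp (by simp)
  | some r =>
    obtain ⟨code', cur', rem'⟩ := r
    rw [hw] at hp
    simp only [Option.map_some, Option.some.injEq, Prod.mk.injEq] at hp
    obtain ⟨rfl, rfl⟩ := hp
    obtain ⟨u, hu, hc⟩ := walk_soundD F 11 16777216 γ c 31446 hval 2 _ _ _ _ _ _ hw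
    rw [List.append_nil] at hu
    subst hu
    rw [hc0] at hc
    exact hc.symm

theorem fix1 (hOK : WordsOK γ q0 words) : act γ pw1 q0 = q0 := by
  obtain ⟨-, c, hc0, hfacts⟩ := run γ q0 hOK
  have hval : ∀ f < 31446, Valid 11 γ c (F f) := fun f hf => (hfacts f hf).2.2
  have hp := path_ok1
  cases hw : walkD F 11 16777216 31446 2 pc1 0 pw1 with
  | none => rw [hw] at hp; exact absurd hp (by simp)
  | some r =>
    obtain ⟨code', cur', rem'⟩ := r
    rw [hw] at hp
    simp only [Option.map_some, Option.some.injEq, Prod.mk.injEq] at hp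
    obtain ⟨rfl, rfl⟩ := hp
    obtain ⟨u, hu, hc⟩ := walk_soundD F 11 16777216 γ c 31446 hval 2 _ _ _ _ _ _ hw
    rw [List.append_nil] at hu
    subst hu
    rw [hc0] at hc
    exact hc.symm

theorem fix2 (hOK : WordsOK γ q0 words) : act γ pw2 q0 = q0 := by
  obtain ⟨-, c, hc0, hfacts⟩ := run γ q0 hOK
  have hval : ∀ f < 31446, Valid 11 γ c (F f) := fun f hf => (hfacts f hf).2.2
  have hp := path_ok2
  cases hw : walkD F 11 16777216 31446 4 pc2 0 pw2 with
  | none => rw [hw] at hp; exact absurd hp (by simp)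
  | some r =>
    obtain ⟨code', cur', rem'⟩ := r
    rw [hw] at hp
    simp only [Option.map_some, Option.some.injEq, Prod.mk.injEq] at hp
    obtain ⟨rfl, rfl⟩ := hp
    obtain ⟨u, hu, hc⟩ := walk_soundD F 11 16777216 γ c 31446 hval 4 _ _ _ _ _ _ hw
    rw [List.append_nil] at hu
    subst hu
    rw [hc0] at hc
    exact hc.symm

theorem fix3 (hOK : WordsOK γ q0 words) : act γ pw3 q0 = q0 := by
  obtain ⟨-, c, hc0, hfacts⟩ := run γ q0 hOK
  have hval : ∀ f < 31446, Valid 11 γ c (F f) := fun f hf => (hfacts f hf).2.2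
  have hp := path_ok3
  cases hw : walkD F 11 16777216 31446 4 pc3 0 pw3 with
  | none => rw [hw] at hp; exact absurd hp (by simp)
  | some r =>
    obtain ⟨code', cur', rem'⟩ := r
    rw [hw] at hp
    simp only [Option.map_some, Option.some.injEq, Prod.mk.injEq] at hp
    obtain ⟨rfl, rfl⟩ := hp
    obtain ⟨u, hu, hc⟩ := walk_soundD F 11 16777216 γ c 31446 hval 4 _ _ _ _ _ _ hw
    rw [List.append_nil] at hu
    subst hu
    rw [hc0] at hc
    exact hc.symm

theorem fix4 (hOK : WordsOK γ q0 words) : act γ pw4 q0 = q0 := by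
  obtain ⟨-, c, hc0, hfacts⟩ := run γ q0 hOK
  have hval : ∀ f < 31446, Valid 11 γ c (F f) := fun f hf => (hfacts f hf).2.2
  have hp := path_ok4
  cases hw : walkD F 11 16777216 31446 16 pc4 0 pw4 with
  | none => rw [hw] at hp; exact absurd hp (by simp)
  | some r =>
    obtain ⟨code', cur', rem'⟩ := r
    rw [hw] at hp
    simp only [Option.map_some, Option.some.injEq, Prod.mk.injEq] at hp
    obtain ⟨rfl, rfl⟩ := hp
    obtain ⟨u, hu, hc⟩ := walk_soundD F 11 16777216 γ c 31446 hval 16 _ _ _ _ _ _ hw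
    rw [List.append_nil] at hu
    subst hu
    rw [hc0] at hc
    exact hc.symm

end Cfsg.Agent.Lib.H28.HeM.CertB
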